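import Mathlib
import Groth.Prelude.Def_AnFib
import Groth.Agent.CAlgSmall.ProjMore

/-!
# Base change of elementary fibrations
-/

set_option autoImplicit false
set_option backward.isDefEq.respectTransparency false
set_option backward.isDefEq.respectTransparency.types false

universe u

open CategoryTheory CategoryTheory.Limits AlgebraicGeometry

namespace Groth.Agent.ElemFib8

theorem isElementaryFibration_pullback_snd {X S S' : Scheme.{u}} (f : X ⟶ S) (u : S' ⟶ S)
    (hf : An.IsElementaryFibration f) : An.IsElementaryFibration (pullback.snd f u) := by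
  obtain ⟨Xb, Y, j, fb, i, rfl, hj, hi, hc, hdense, hsm, ⟨n, c, hcl, hcb⟩, hfib, hfin, het, hsur⟩ := hf
  haveI := hj; haveI := hi; haveI := hsm; haveI := hfin; haveI := het
  haveI : Surjective (i ≫ fb) := ⟨hsur⟩
  let p : pullback fb u ⟶ Xb := pullback.fst fb u
  let fb' : pullback fb u ⟶ S' := pullback.snd fb u
  let j' : pullback (j ≫ fb) u ⟶ pullback fb u :=
    pullback.map (j ≫ fb) u fb u j (𝟙 _) (𝟙 _) (by simp) (by simp)
  let i' : pullback (i ≫ fb) u ⟶ pullback fb u :=
    pullback.map (i ≫ fb) u fb u i (𝟙 _) (𝟙 _) (by simp) (by simp)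
  have hj' : IsPullback (pullback.fst (j ≫ fb) u) j' j p := by
    refine IsPullback.of_bot ?_ (by simp [j', p]) (IsPullback.of_hasPullback fb u)
    rw [show j' ≫ pullback.snd fb u = pullback.snd (j ≫ fb) u by simp [j']]
    exact IsPullback.of_hasPullback _ _
  have hi' : IsPullback (pullback.fst (i ≫ fb) u) i' i p := by
    refine IsPullback.of_bot ?_ (by simp [i', p]) (IsPullback.of_hasPullback fb u)
    rw [show i' ≫ pullback.snd fb u = pullback.snd (i ≫ fb) u by simp [i']]
    exact IsPullback.of_hasPullback _ _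
  haveI : IsOpenImmersion j' := MorphismProperty.of_isPullback hj' hj
  haveI : IsClosedImmersion i' := MorphismProperty.of_isPullback hi' hi
  have hrange : ∀ {W : Scheme.{u}} {m : W ⟶ Xb} {W' : Scheme.{u}} {a : W' ⟶ W} {m' : W' ⟶ pullback fb u}
      (_ : IsPullback a m' m p), Set.range m'.base = p.base ⁻¹' Set.range m.base := by
    intro W m W' a m' h
    rw [← h.isoPullback_hom_snd, Scheme.Hom.comp_base, TopCat.coe_comp, Set.range_comp,
      Set.range_eq_univ.2 h.isoPullback.hom.surjective, Set.image_univ]
    exact Scheme.Pullback.range_snd (f := m) (g := p)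
  have hfib' : ∀ (Ω : Type u) [Field Ω] [IsAlgClosed Ω] (σ : Spec (CommRingCat.of Ω) ⟶ S'),
      IrreducibleSpace ↥(pullback fb' σ) ∧ topologicalKrullDim ↥(pullback fb' σ) = 1 := by
    intro Ω _ _ σ
    obtain ⟨h1, h2⟩ := hfib Ω (σ ≫ u)
    let e := (pullbackLeftPullbackSndIso fb u σ).hom.homeomorph
    haveI := h1
    refine ⟨(irreducibleSpace_def _).2 ?_, (IsHomeomorph.topologicalKrullDim_eq e e.isHomeomorph).trans h2⟩
    have := (IrreducibleSpace.isIrreducible_univ _).image e.symm e.symm.continuous.continuousOn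
    rwa [Set.image_univ, Set.range_eq_univ.2 e.symm.surjective] at this
  refine ⟨pullback fb u, pullback (i ≫ fb) u, j', fb', i', by simp [j', fb'], inferInstance, inferInstance, ?_, ?_,
    MorphismProperty.pullback_snd fb u hsm, ?_, hfib', ?_, ?_, ?_⟩
  · rw [hrange hj', hrange hi', hc, Set.preimage_compl]
  · intro s'
    let Ω := AlgebraicClosure (S'.residueField s')
    let σ : Spec (CommRingCat.of Ω) ⟶ S' :=
      Spec.map (CommRingCat.ofHom (algebraMap (S'.residueField s') Ω)) ≫ S'.fromSpecResidueField s'
    have hσ : Set.range σ.base = {s'} := by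
      rw [Scheme.Hom.comp_base, TopCat.coe_comp, Set.range_comp,
        Set.range_eq_univ.2 (fun y => ⟨default, Subsingleton.elim _ _⟩), Set.image_univ,
        ]; exact Scheme.range_fromSpecResidueField s'
    haveI := (hfib' Ω σ).1
    have hirr : IsIrreducible (fb'.base ⁻¹' {s'}) := by
      rw [← hσ, ← Scheme.Pullback.range_fst (f := fb') (g := σ), ← Set.image_univ]
      exact (IrreducibleSpace.isIrreducible_univ _).image _ (pullback.fst fb' σ).continuous.continuousOn
    have hopen : IsOpen (Set.range j'.base) := j'.isOpenEmbedding.isOpen_range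
    have hne : (fb'.base ⁻¹' {s'} ∩ Set.range j'.base).Nonempty := by
      have h1 : (Set.range j.base ∩ fb.base ⁻¹' {u.base s'}).Nonempty := by
        obtain ⟨y, hy⟩ := hsur (u.base s')
        rw [Set.nonempty_iff_ne_empty]
        intro he
        have h := hdense (u.base s') (show i.base y ∈ fb.base ⁻¹' {u.base s'} from hy)
        rw [he, closure_empty] at h
        exact h
      obtain ⟨x, hxj, hxs⟩ := h1
      obtain ⟨z, hz1, hz2⟩ := Scheme.Pullback.exists_preimage_pullback (f := fb) (g := u) x s' hxs
      refine ⟨z, hz2, ?_⟩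
      rw [hrange hj']
      show p.base z ∈ Set.range j.base
      rw [show p.base z = x from hz1]
      exact hxj
    rw [Set.inter_comm]
    exact subset_closure_inter_of_isPreirreducible_of_isOpen hirr.2 hopen hne
  · obtain ⟨c', hc', hcb'⟩ := CAlgSmall.ProjMore.exists_pn_baseChange @IsClosedImmersion
      (IsPullback.of_hasPullback fb u) c hcl hcb
    exact ⟨n, c', hc', hcb'⟩
  · rw [show i' ≫ fb' = pullback.snd (i ≫ fb) u by simp [i', fb']]
    infer_instance
  · rw [show i' ≫ fb' = pullback.snd (i ≫ fb) u by simp [i', fb']]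
    exact MorphismProperty.pullback_snd (P := @Etale) (i ≫ fb) u het
  · rw [show i' ≫ fb' = pullback.snd (i ≫ fb) u by simp [i', fb']]
    haveI : Surjective (pullback.snd (i ≫ fb) u) := MorphismProperty.pullback_snd (P := @Surjective) _ _ inferInstance
    exact (pullback.snd (i ≫ fb) u).surjective

end Groth.Agent.ElemFib8
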